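import Groth.Agent.EtCdp5.Support
import Groth.Prelude.Def_EtAcyc
import Groth.Prelude.Def_PBC

/-!
# Vanishing for constant sheaves extended by zero, by dévissage to integral subschemes
-/

set_option autoImplicit false
set_option linter.unusedSectionVars false
set_option linter.style.haveILetI false
set_option backward.isDefEq.respectTransparency false
set_option backward.isDefEq.respectTransparency.types false

universe u

open CategoryTheory CategoryTheory.Limits AlgebraicGeometry Opposite Abelian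

noncomputable section

namespace Groth.Agent.EtCdDev

open Groth.Agent.EtFound Groth.Agent.EtCdp5 Groth.Agent.GalCd5

attribute [local instance] EtFound.pull_preservesFiniteLimits

variable {X : Scheme.{u}}

/-- `φ` is monotone on integral schemes finite over `X` and strict on closed immersions -/
def Mono' (φ : ∀ (Y : Scheme.{u}), (Y ⟶ X) → ℕ) : Prop :=
  ∀ (Y₁ Y₂ : Scheme.{u}) (g₁ : Y₁ ⟶ X) (g₂ : Y₂ ⟶ X) [IsIntegral Y₁] [IsIntegral Y₂] [IsFinite g₁] [IsFinite g₂]
    (m : Y₁ ⟶ Y₂), m ≫ g₂ = g₁ → φ Y₁ g₁ ≤ φ Y₂ g₂ ∧ (IsClosedImmersion m → ¬ IsIso m → φ Y₁ g₁ < φ Y₂ g₂)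

/-- every integral closed subscheme has `φ < m` -/
def Bd (φ : ∀ (Y : Scheme.{u}), (Y ⟶ X) → ℕ) {Y : Scheme.{u}} (g : Y ⟶ X) (m : ℕ) : Prop :=
  ∀ (Z : Scheme.{u}) (c : Z ⟶ Y) [IsIntegral Z] [IsClosedImmersion c], φ Z (c ≫ g) < m

variable {φ : ∀ (Y : Scheme.{u}), (Y ⟶ X) → ℕ}

theorem exists_integral_subscheme {Y : Scheme.{u}} {S : Set Y} (hc : IsClosed S) (hi : IsIrreducible S) :
    ∃ (W : Scheme.{u}) (ι : W ⟶ Y), IsClosedImmersion ι ∧ IsIntegral W ∧ Set.range ι.base = S := by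
  let O : Y.Opens := ⟨Sᶜ, hc.isOpen_compl⟩
  haveI : IsReduced (cIdeal O).subscheme := H23.RedSub.isReduced_vanishingIdeal _
  have hr : Set.range (cIdeal O).subschemeι.base = S := (range_cι O).trans (compl_compl S)
  haveI : IrreducibleSpace (cIdeal O).subscheme := by
    haveI : Nonempty (cIdeal O).subscheme := by
      obtain ⟨x, hx⟩ := hi.1
      exact ⟨(hr.ge hx).choose⟩
    refine { toPreirreducibleSpace := ⟨?_⟩, toNonempty := inferInstance }
    intro a b ha hb ⟨x, _, hxa⟩ ⟨y, _, hyb⟩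
    obtain ⟨A, hA, rfl⟩ := (cIdeal O).subschemeι.isClosedEmbedding.isInducing.isOpen_iff.1 ha
    obtain ⟨B, hB, rfl⟩ := (cIdeal O).subschemeι.isClosedEmbedding.isInducing.isOpen_iff.1 hb
    obtain ⟨z, hzS, hzA, hzB⟩ := hi.isPreirreducible A B hA hB ⟨_, hr.le ⟨x, rfl⟩, hxa⟩ ⟨_, hr.le ⟨y, rfl⟩, hyb⟩
    obtain ⟨w, rfl⟩ := hr.ge hzS
    exact ⟨w, trivial, hzA, hzB⟩
  exact ⟨_, (cIdeal O).subschemeι, inferInstance, isIntegral_of_irreducibleSpace_of_isReduced _, hr⟩

theorem bd_of_finite (hφ : Mono' φ) {Y Y' : Scheme.{u}} (g : Y ⟶ X) [IsFinite g] (f : Y' ⟶ Y) [IsFinite f] {m : ℕ}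
    (h : Bd φ g m) : Bd φ (f ≫ g) m := by
  intro Z c _ _
  let S := Set.range (c ≫ f).base
  have hc : IsClosed S := (c ≫ f).isClosedMap.isClosed_range
  have hi : IsIrreducible S := by
    rw [show S = (c ≫ f).base '' Set.univ from Set.image_univ.symm]
    exact (IrreducibleSpace.isIrreducible_univ Z).image _ (c ≫ f).continuous.continuousOn
  obtain ⟨W, ι, _, _, hr⟩ := exists_integral_subscheme hc hi
  obtain ⟨a, ha⟩ := H23.RedSub.exists_lift_closed (c ≫ f) ι hr.ge
  exact lt_of_le_of_lt (hφ Z W (c ≫ f ≫ g) (ι ≫ g) a (by rw [← Category.assoc, ha, Category.assoc])).1 (h W ι)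

theorem isEmpty_of_bd_zero {Y : Scheme.{u}} {g : Y ⟶ X} (h : Bd φ g 0) : IsEmpty Y := by
  refine ⟨fun y => ?_⟩
  obtain ⟨W, ι, _, _, -⟩ := exists_integral_subscheme (Y := Y) isClosed_closure
    (isIrreducible_singleton (x := y)).closure
  exact Nat.not_lt_zero _ (h W ι)

/-- a closed subscheme missing a point of an integral scheme has a smaller bound -/
theorem bd_of_missing (hφ : Mono' φ) {Y W : Scheme.{u}} [IsIntegral Y] (g : Y ⟶ X) [IsFinite g] (ι : W ⟶ Y)
    [IsClosedImmersion ι] (y : Y) (hy : y ∉ Set.range ι.base) {k : ℕ} (h : φ Y g ≤ k) : Bd φ (ι ≫ g) k := by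
  intro Z c _ _
  refine lt_of_lt_of_le ((hφ Z Y (c ≫ ι ≫ g) g (c ≫ ι) (by simp)).2 inferInstance fun hiso => ?_) h
  exact hy ⟨c.base ((inv (c ≫ ι)).base y), (Scheme.Hom.comp_apply c ι _).symm.trans
    ((Scheme.Hom.comp_apply _ _ _).symm.trans (by rw [IsIso.inv_hom_id]; rfl))⟩

/-- a sheaf which is constant on an open and zero outside -/
def Good (ℓ : ℕ) {Y : Scheme.{u}} (C : EtCoh.Ab Y) : Prop :=
  ∃ (U : Scheme.{u}) (j : U ⟶ Y) (_ : IsOpenImmersion j),
    Nonempty ((EtCoh.pull j).obj C ≅ EtCoh.const U (ZMod ℓ)) ∧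
    ∀ (Ω : Type u) [Field Ω] [IsSepClosed Ω] (ξ : Spec (CommRingCat.of Ω) ⟶ Y),
      ξ.base (default : Spec (CommRingCat.of Ω)) ∉ Set.range j.base → IsZero ((EtCoh.stalk ξ).obj C)

variable {ℓ : ℕ}

theorem good_pull {Y' Y : Scheme.{u}} (f : Y' ⟶ Y) {C : EtCoh.Ab Y} (h : Good ℓ C) :
    Good ℓ ((EtCoh.pull f).obj C) := by
  obtain ⟨U, j, hj, ⟨e⟩, h0⟩ := h
  refine ⟨_, pullback.fst f j, inferInstance, ⟨?_⟩, fun Ω _ _ ξ hξ => ?_⟩
  · exact ((EtFound.pullCompAb (pullback.fst f j) f).app C).symm ≪≫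
      eqToIso (congrArg (fun k => (EtCoh.pull k).obj C) pullback.condition) ≪≫
      (EtFound.pullCompAb (pullback.snd f j) j).app C ≪≫
      (EtCoh.pull (pullback.snd f j)).mapIso e ≪≫ EtCore.pullConst (pullback.snd f j) (ZMod ℓ)
  · refine IsZero.of_iso (h0 Ω (ξ ≫ f) fun hm => hξ ?_) ((stalkPullIso f ξ).app C)
    rw [Scheme.Pullback.range_fst]
    rw [Scheme.Hom.comp_apply] at hm
    exact hm

theorem good_const (Y : Scheme.{u}) : Good ℓ (EtCoh.const Y (ZMod ℓ)) :=
  ⟨Y, 𝟙 Y, inferInstance, ⟨EtCore.pullConst (𝟙 Y) _⟩, fun Ω _ _ ξ hξ => absurd ⟨_, rfl⟩ hξ⟩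

theorem isIso_pull_counit {U Y : Scheme.{u}} (j : U ⟶ Y) [IsOpenImmersion j] [EtShriek.JCont j] (C : EtCoh.Ab Y) :
    IsIso ((EtCoh.pull j).map ((EtShriek.extZeroAdj j).counit.app C)) := by
  refine (isIso_iff_stalks _).2 fun Ω _ _ z => ?_
  haveI := isIso_counit_stalk j z C
  exact (NatIso.isIso_map_iff (stalkPullIso j z) _).2 inferInstance

theorem isIso_unit_extZero {U Y : Scheme.{u}} (j : U ⟶ Y) [IsOpenImmersion j] [EtShriek.JCont j] (L : EtCoh.Ab U) :
    IsIso ((EtShriek.extZeroAdj j).unit.app L) :=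
  (isIso_iff_stalks _).2 fun _ _ _ z => isIso_stalk_unit j (A := AddCommGrpCat.{u + 1}) L z

theorem good_extZero_const {U Y : Scheme.{u}} (j : U ⟶ Y) [IsOpenImmersion j] [EtShriek.JCont j] :
    Good ℓ ((EtShriek.extZero j).obj (EtCoh.const U (ZMod ℓ))) := by
  haveI := isIso_unit_extZero j (EtCoh.const U (ZMod ℓ))
  exact ⟨U, j, inferInstance,
    ⟨((restrPullIso j).app _).symm ≪≫ (asIso ((EtShriek.extZeroAdj j).unit.app (EtCoh.const U (ZMod ℓ)))).symm⟩,
    fun Ω _ _ ξ hξ => isZero_stalk_extZero j ξ hξ _⟩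

theorem good_restrict {Y : Scheme.{u}} (V : Y.Opens) [EtShriek.JCont V.ι] {C : EtCoh.Ab Y} (h : Good ℓ C) :
    Good ℓ ((EtShriek.extZero V.ι).obj ((EtShriek.restrAlong V.ι).obj C)) := by
  obtain ⟨U, j, hj, ⟨e⟩, h0⟩ := h
  haveI := isIso_pull_counit V.ι C
  refine ⟨_, pullback.fst V.ι j ≫ V.ι, inferInstance, ⟨?_⟩, fun Ω _ _ ξ hξ => ?_⟩
  · exact (EtFound.pullCompAb (pullback.fst V.ι j) V.ι).app _ ≪≫
      (EtCoh.pull _).mapIso (asIso ((EtCoh.pull V.ι).map ((EtShriek.extZeroAdj V.ι).counit.app C))) ≪≫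
      ((EtFound.pullCompAb (pullback.fst V.ι j) V.ι).app C).symm ≪≫
      eqToIso (congrArg (fun k => (EtCoh.pull k).obj C) pullback.condition) ≪≫
      (EtFound.pullCompAb (pullback.snd V.ι j) j).app C ≪≫
      (EtCoh.pull (pullback.snd V.ι j)).mapIso e ≪≫ EtCore.pullConst (pullback.snd V.ι j) (ZMod ℓ)
  · by_cases hV : ξ.base (default : Spec (CommRingCat.of Ω)) ∈ Set.range V.ι.base
    · haveI := isIso_stalk_of_lift V.ι ((EtShriek.extZeroAdj V.ι).counit.app C) ξ hV
        fun k _ _ z => isIso_counit_stalk V.ι z C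
      refine IsZero.of_iso (h0 Ω ξ fun hj' => hξ ?_)
        (asIso ((EtCoh.stalk ξ).map ((EtShriek.extZeroAdj V.ι).counit.app C)))
      obtain ⟨v, hv⟩ := hV
      obtain ⟨w, hw⟩ := hj'
      obtain ⟨t, ht, -⟩ := Scheme.Pullback.exists_preimage_pullback (f := V.ι) (g := j) v w (hv.trans hw.symm)
      exact ⟨t, (Scheme.Hom.comp_apply _ _ _).trans ((congrArg V.ι.base ht).trans hv)⟩
    · exact isZero_stalk_extZero V.ι ξ hV _

theorem isZero_pull_of_outside {U Y W : Scheme.{u}} (j : U ⟶ Y) (i : W ⟶ Y)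
    (hU : Set.range j.base ⊆ (Set.range i.base)ᶜ) {C : EtCoh.Ab Y}
    (h0 : ∀ (Ω : Type u) [Field Ω] [IsSepClosed Ω] (ξ : Spec (CommRingCat.of Ω) ⟶ Y),
      ξ.base (default : Spec (CommRingCat.of Ω)) ∉ Set.range j.base → IsZero ((EtCoh.stalk ξ).obj C)) :
    IsZero ((EtCoh.pull i).obj C) :=
  (isZero_iff_stalks _).2 fun Ω _ _ ξ => IsZero.of_iso (h0 Ω (ξ ≫ i) fun hm => hU hm
    ⟨ξ.base default, (Scheme.Hom.comp_apply ξ i _).symm⟩) ((stalkPullIso i ξ).app C)

/-- the vanishing for sheaves constant on an open and zero outside -/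
theorem vanishing_good (hφ : Mono' φ)
    (h2 : ∀ (Y : Scheme.{u}) (g : Y ⟶ X) [IsIntegral Y] [IsFinite g] (q : ℕ), φ Y g < q →
      Subsingleton (EtCoh.H Y (EtCoh.const Y (ZMod ℓ)) q)) [IsNoetherian X] :
    ∀ (m : ℕ) (Y : Scheme.{u}) (g : Y ⟶ X) [IsFinite g], Bd φ g m → ∀ C : EtCoh.Ab Y, Good ℓ C →
      ∀ q, m ≤ q → Subsingleton (EtCoh.H Y C q) := by
  intro m
  induction m with
  | zero =>
    intro Y g _ hb C _ q _
    haveI := isEmpty_of_bd_zero hb
    exact subsingleton_H_of_isZero (isZero_of_isEmpty _) q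
  | succ k ih =>
    intro Y g hg hb
    haveI : IsLocallyNoetherian Y := LocallyOfFiniteType.isLocallyNoetherian g
    haveI : CompactSpace Y := QuasiCompact.compactSpace_of_compactSpace g
    haveI : IsNoetherian Y := {}
    suffices h : ∀ (S : TopologicalSpace.Closeds Y) (Z : Scheme.{u}) (i : Z ⟶ Y) [IsClosedImmersion i],
        Set.range i.base = S → ∀ C : EtCoh.Ab Z, Good ℓ C → ∀ q, k + 1 ≤ q → Subsingleton (EtCoh.H Z C q) from
      h ⊤ Y (𝟙 Y) (by simp)
    intro S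
    induction S using WellFoundedLT.induction with
    | ind S ihS =>
    intro Z₀ i₀ _ hS C₀ hC₀ q hq
    -- pass to the reduced closed subscheme
    let O₀ : Z₀.Opens := ⊥
    haveI : IsReduced (cIdeal O₀).subscheme := H23.RedSub.isReduced_vanishingIdeal _
    haveI := EtFound.jCont O₀.ι
    haveI : IsEmpty O₀.toScheme := ⟨fun x => (x.2 : _)⟩
    haveI : PreservesFiniteLimits (EtShriek.extZero O₀.ι) := EtFound.extZero_preservesFiniteLimits _
    haveI : (EtShriek.extZero O₀.ι).Additive := Functor.additive_of_preserves_binary_products _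
    refine subsingleton_of_open_closed O₀.ι (cIdeal O₀).subschemeι (by rw [range_cι, compl_compl, Scheme.Opens.range_ι])
      C₀ q (subsingleton_H_of_isZero ((EtShriek.extZero O₀.ι).map_isZero (isZero_of_isEmpty _)) q) ?_
    let i := (cIdeal O₀).subschemeι ≫ i₀
    let Z := (cIdeal O₀).subscheme
    let C : EtCoh.Ab Z := (EtCoh.pull (cIdeal O₀).subschemeι).obj C₀
    have hC : Good ℓ C := good_pull _ hC₀
    have hrange : Set.range i.base = S := by
      rw [← hS]
      refine le_antisymm (Set.range_comp_subset_range (cIdeal O₀).subschemeι.base i₀.base) ?_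
      rintro _ ⟨z, rfl⟩
      obtain ⟨w, hw⟩ : z ∈ Set.range (cIdeal O₀).subschemeι.base := by
        rw [range_cι]
        exact fun h => h
      exact ⟨w, (Scheme.Hom.comp_apply _ _ _).trans (congrArg i₀.base hw)⟩
    -- proper closed subsets are covered by the induction hypothesis
    have hsub : ∀ (V : Z.Opens), (V : Set Z).Nonempty → ∀ D : EtCoh.Ab Z, Good ℓ D →
        Subsingleton (EtCoh.H (cIdeal V).subscheme ((EtCoh.pull (cIdeal V).subschemeι).obj D) q) := by
      intro V ⟨v, hv⟩ D hD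
      let i₁ := (cIdeal V).subschemeι ≫ i
      refine ihS ⟨Set.range i₁.base, i₁.isClosedEmbedding.isClosed_range⟩ ?_ _ i₁ rfl _ (good_pull _ hD) q hq
      refine lt_of_le_of_ne ?_ ?_
      · show Set.range i₁.base ⊆ (S : Set Y)
        rw [← hrange]
        exact Set.range_comp_subset_range (cIdeal V).subschemeι.base i.base
      · intro he
        have hv₀ : i.base v ∈ Set.range i₁.base := by
          have : i.base v ∈ (S : Set Y) := hrange ▸ Set.mem_range_self _
          rw [← he] at this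
          exact this
        obtain ⟨w, hw⟩ := hv₀
        have e := i.isClosedEmbedding.injective hw
        exact ((range_cι V).subset ⟨w, e⟩ : v ∈ (V : Set Z)ᶜ) hv
    rcases isEmpty_or_nonempty Z with hZ | hZ
    · exact subsingleton_H_of_isZero (isZero_of_isEmpty _) q
    by_cases hirr : IrreducibleSpace Z
    · -- the integral case
      haveI : IsIntegral Z := isIntegral_of_irreducibleSpace_of_isReduced _
      obtain ⟨U, j, hj, ⟨e⟩, h0⟩ := hC
      haveI := hj
      haveI := EtFound.jCont j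
      rcases isEmpty_or_nonempty U with hU | hU
      · exact subsingleton_H_of_isZero ((isZero_iff_stalks _).2 fun Ω _ _ ξ =>
          h0 Ω ξ fun ⟨x, _⟩ => isEmptyElim x) q
      let V : Z.Opens := j.opensRange
      let w := (cIdeal V).subschemeι
      have hjW : Set.range j.base = (Set.range w.base)ᶜ := by
        rw [range_cι, compl_compl]
        rfl
      refine subsingleton_of_open_closed j w hjW C q ?_
        (subsingleton_H_of_isZero (isZero_pull_of_outside j w hjW.le h0) q)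
      refine subsingleton_H_of_iso
        ((EtShriek.extZero j).mapIso (EtCore.pullConst j (ZMod ℓ) ≪≫ e.symm)) q ?_
      -- compare with the constant sheaf
      obtain ⟨wz, hSeq⟩ := EtFound.recollement_shortExact w j hjW (EtCoh.const Z (ZMod ℓ))
      refine subsingleton_H_of_iso ((EtShriek.extZero j).mapIso ((restrPullIso j).app _)) q ?_
      obtain ⟨q', rfl⟩ : ∃ q', q = q' + 1 := ⟨q - 1, by omega⟩
      have hφZ : φ Z (i ≫ g) < k + 1 := hb Z i
      have hconst := h2 Z (i ≫ g) (q' + 1) (lt_of_lt_of_le hφZ hq)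
      obtain ⟨u⟩ := hU
      have hbW : Bd φ (w ≫ i ≫ g) k := bd_of_missing hφ (i ≫ g) w (j.base u)
        (fun hm => (hjW.le ⟨u, rfl⟩) hm) (Nat.le_of_lt_succ hφZ)
      have hW : Subsingleton (EtCoh.H Z ((EtCoh.push w).obj ((EtCoh.pull w).obj (EtCoh.const Z (ZMod ℓ)))) q') :=
        (GalCd5.subsingleton_H_push_iff w _ q').2
          (ih _ (w ≫ i ≫ g) hbW _ (good_pull _ (good_const Z)) q' (by omega))
      refine subsingleton_of_forall_eq 0 fun x => ?_
      obtain ⟨z, rfl⟩ := Ext.covariant_sequence_exact₁ _ hSeq x (hconst.elim _ _) (rfl : q' + 1 = q' + 1)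
      rw [hW.elim z 0, Ext.zero_comp]
    · -- two proper closed subsets
      obtain ⟨V₁, V₂, h₁, h₂, hd⟩ : ∃ V₁ V₂ : Z.Opens, (V₁ : Set Z).Nonempty ∧ (V₂ : Set Z).Nonempty ∧
          Disjoint (V₁ : Set Z) V₂ := by
        by_contra hcon
        refine hirr { toPreirreducibleSpace := ⟨fun a b ha hb hna hnb => ?_⟩, toNonempty := hZ }
        by_contra he
        refine hcon ⟨⟨a, ha⟩, ⟨b, hb⟩, by simpa using hna, by simpa using hnb, ?_⟩
        rw [Set.disjoint_iff_inter_eq_empty]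
        exact Set.not_nonempty_iff_eq_empty.1 fun ⟨z, hz⟩ => he ⟨z, Set.mem_univ z, hz⟩
      haveI := EtFound.jCont V₁.ι
      haveI := EtFound.jCont V₂.ι
      haveI : PreservesFiniteLimits (EtShriek.extZero V₂.ι) := EtFound.extZero_preservesFiniteLimits _
      haveI : (EtShriek.extZero V₂.ι).Additive := Functor.additive_of_preserves_binary_products _
      let C₁ := (EtShriek.extZero V₁.ι).obj ((EtShriek.restrAlong V₁.ι).obj C)
      refine subsingleton_of_open_closed V₁.ι (cIdeal V₁).subschemeι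
        (by rw [range_cι, compl_compl, Scheme.Opens.range_ι]) C q ?_ (hsub V₁ h₁ C hC)
      refine subsingleton_H_of_iso ((EtShriek.extZero V₁.ι).mapIso ((restrPullIso V₁.ι).app C)) q ?_
      refine subsingleton_of_open_closed V₂.ι (cIdeal V₂).subschemeι
        (by rw [range_cι, compl_compl, Scheme.Opens.range_ι]) C₁ q ?_ (hsub V₂ h₂ C₁ (good_restrict V₁ hC))
      refine subsingleton_H_of_isZero ((EtShriek.extZero V₂.ι).map_isZero
        ((isZero_iff_stalks _).2 fun Ω _ _ ξ => ?_)) q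
      refine IsZero.of_iso (isZero_stalk_extZero V₁.ι (ξ ≫ V₂.ι) (fun hm => ?_) _) ((stalkPullIso V₂.ι ξ).app C₁)
      rw [Scheme.Opens.range_ι] at hm
      exact hd.ne_of_mem hm (ξ.base (default : Spec (CommRingCat.of Ω))).2 (Scheme.Hom.comp_apply ξ V₂.ι _)

end Groth.Agent.EtCdDev
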