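import Groth.Agent.EtCdDev.Good

/-!
# Cohomological dimension from the constant sheaves on integral schemes finite over the base
-/

set_option autoImplicit false
set_option linter.unusedSectionVars false
set_option linter.style.haveILetI false
set_option backward.isDefEq.respectTransparency false
set_option backward.isDefEq.respectTransparency.types false

universe u

open CategoryTheory CategoryTheory.Limits AlgebraicGeometry Opposite Abelian

noncomputable section

namespace Groth.Agent.EtCdDev

open Groth.Agent.EtFound Groth.Agent.EtCdp5 Groth.Agent.GalCd5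

attribute [local instance] EtFound.pull_preservesFiniteLimits

theorem isLTorsion_of_singleton {Y : Scheme.{u}} {ℓ : ℕ} (hℓ : ℓ.Prime) {F : EtCoh.Ab Y}
    (hF : EtAcyc.IsLTorsion {ℓ} F) : EtDepth.IsLTorsion ℓ F := fun U s x => by
  obtain ⟨V, g, m, hv, ⟨hm, hp⟩, h0⟩ := hF U s x
  refine ⟨V, g, hv, m.primeFactorsList.length, ?_⟩
  have h := Nat.eq_prime_pow_of_unique_prime_dvd hm.ne' (p := ℓ) fun {d} hd hdm => Set.mem_singleton_iff.1 (hp d hd hdm)
  rw [← h]
  exact h0

theorem main {X : Scheme.{u}} [IsNoetherian X] (ℓ : ℕ) (hℓ : ℓ.Prime) {φ : ∀ (Y : Scheme.{u}), (Y ⟶ X) → ℕ}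
    (hφ : Mono' φ)
    (h2 : ∀ (Y : Scheme.{u}) (g : Y ⟶ X) [IsIntegral Y] [IsFinite g] (q : ℕ), φ Y g < q →
      Subsingleton (EtCoh.H Y (EtCoh.const Y (ZMod ℓ)) q))
    (Y : Scheme.{u}) (g : Y ⟶ X) [IsFinite g] (F : EtCoh.Ab Y) (hF : EtAcyc.IsLTorsion {ℓ} F) (q : ℕ)
    (hq : ∀ (Z : Scheme.{u}) (c : Z ⟶ Y) [IsIntegral Z] [IsClosedImmersion c],
      Set.range c.base ⊆ closure (EtPBC.supp F) → φ Z (c ≫ g) < q) :
    Subsingleton (EtCoh.H Y F q) := by
  haveI : Fact ℓ.Prime := ⟨hℓ⟩
  haveI : IsLocallyNoetherian Y := LocallyOfFiniteType.isLocallyNoetherian g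
  haveI : CompactSpace Y := QuasiCompact.compactSpace_of_compactSpace g
  haveI : IsNoetherian Y := {}
  refine subsingleton_H_of_constructible_sub hℓ q F (isLTorsion_of_singleton hℓ hF) fun C a hC hk h _ => ?_
  let O : Y.Opens := ⟨(closure (EtPBC.supp F))ᶜ, isClosed_closure.isOpen_compl⟩
  haveI := EtFound.jCont O.ι
  haveI := (EtCoh.pullPushAdj (cIdeal O).subschemeι).left_adjoint_additive
  haveI : PreservesFiniteLimits (EtShriek.extZero O.ι) := EtFound.extZero_preservesFiniteLimits _
  haveI : (EtShriek.extZero O.ι).Additive := Functor.additive_of_preserves_binary_products _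
  have hr : Set.range (cIdeal O).subschemeι.base = closure (EtPBC.supp F) := (range_cι O).trans (compl_compl _)
  refine subsingleton_of_open_closed O.ι (cIdeal O).subschemeι (by rw [range_cι, compl_compl, Scheme.Opens.range_ι])
    C q (subsingleton_H_of_isZero ((EtShriek.extZero O.ι).map_isZero ?_) q) ?_
  · refine (isZero_iff_stalks _).2 fun Ω _ _ ξ => ?_
    refine IsZero.of_iso (isZero_of_mono_stalk h _ ?_) ((stalkPullIso O.ι ξ).app C)
    by_contra hz
    refine (ξ.base (default : Spec (CommRingCat.of Ω))).2 (subset_closure ?_)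
    exact ⟨Ω, inferInstance, inferInstance, ξ ≫ O.ι, range_point _, hz⟩
  · let W := (cIdeal O).subscheme
    let ι := (cIdeal O).subschemeι
    have hb : Bd φ (ι ≫ g) q := fun Z c _ _ => by
      have := hq Z (c ≫ ι) (hr ▸ Set.range_comp_subset_range c.base ι.base)
      rwa [Category.assoc] at this
    haveI : IsLocallyNoetherian W := LocallyOfFiniteType.isLocallyNoetherian ι
    haveI : CompactSpace W := QuasiCompact.compactSpace_of_compactSpace ι
    haveI : IsNoetherian W := {}
    rcases Nat.eq_zero_or_pos q with rfl | hpos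
    · haveI := isEmpty_of_bd_zero hb
      exact subsingleton_H_of_isZero (isZero_of_isEmpty _) 0
    refine EtCdp5.vanishing ℓ (d := q - 1) ?_ a _ (EtFound.isConstructible_pull _ hC)
      (killed_map _ C _ hk) q (by omega)
    intro W' π _ U j _ _ q' hq'
    exact vanishing_good hφ h2 q W' (π ≫ ι ≫ g) (bd_of_finite hφ (ι ≫ g) π hb) _ (good_extZero_const j) q' (by omega)

end Groth.Agent.EtCdDev
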